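import Mathlib
import Cfsg.Agent.Lib.Frobenius.QuadraticAbelian
import Cfsg.Agent.Lib.PGroups.ElemAb

/-!
# Offenders in groups with elementary quadratic 2-subgroups

`M` acts faithfully on an elementary abelian 2-group `U`; all 2-subgroups of `M` are commutative
and act quadratically, `O₂(M) = 1`.  An offender then yields elements `a, b, e, f` inducing the
symmetric group of degree three on a four-group section of `U`.
-/

set_option autoImplicit false
set_option linter.unusedSectionVars false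

namespace Cfsg.Agent.Lib.FourFree.Pair

open Subgroup Cfsg.Agent.Lib.Frobenius.QuadraticAbelian
open scoped Pointwise

variable {M : Type*} [Group M] [Finite M] {U : Type*} [CommGroup U] [Finite U] (ρ : M →* MulAut U)

/-- The hypotheses. -/
structure Quadratic : Prop where
  inj : Function.Injective ρ
  exp : ∀ u : U, u * u = 1
  comm : ∀ P : Subgroup M, IsPGroup 2 P → ∀ x ∈ P, ∀ y ∈ P, Commute x y
  quad : ∀ P : Subgroup M, IsPGroup 2 P → ∀ x ∈ P, ∀ y ∈ P, ∀ u, ρ y (ρ x u * u⁻¹) = ρ x u * u⁻¹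
  core : ∀ N : Subgroup M, N.Normal → IsPGroup 2 N → N = ⊥

/-- The commutator map of `x`. -/
def delta (x : M) : U →* U where
  toFun u := ρ x u * u⁻¹
  map_one' := by simp
  map_mul' u v := by rw [map_mul, mul_inv, mul_mul_mul_comm]

theorem delta_apply (x : M) (u : U) : delta ρ x u = ρ x u * u⁻¹ := rfl

theorem apply_eq (x : M) (u : U) : ρ x u = u * delta ρ x u := by
  rw [delta_apply, mul_comm, inv_mul_cancel_right]

/-- `A` offends. -/
def Offender (A : Subgroup M) : Prop :=
  A ≠ ⊥ ∧ IsPGroup 2 A ∧ Nat.card U ≤ Nat.card A * Nat.card (fixedSub ρ A)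

theorem card_mul_le {W X Y : Subgroup U} (hX : X ≤ W) (hY : Y ≤ W) :
    Nat.card X * Nat.card Y ≤ Nat.card (X ⊓ Y : Subgroup U) * Nat.card W := by
  have h1 := relIndex_mul_relIndex ⊥ (X ⊓ Y) Y bot_le inf_le_right
  have h2 := relIndex_mul_relIndex ⊥ X W bot_le hX
  rw [relIndex_bot_left, relIndex_bot_left, inf_relIndex_right] at h1
  rw [relIndex_bot_left, relIndex_bot_left] at h2
  rw [← h1, ← h2]
  have h3 : X.relIndex Y ≤ X.relIndex W := relIndex_le_of_le_right hY (Subgroup.index_ne_zero_of_finite (H := X.subgroupOf W))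
  calc Nat.card X * (Nat.card (X ⊓ Y : Subgroup U) * X.relIndex Y)
      = Nat.card (X ⊓ Y : Subgroup U) * (Nat.card X * X.relIndex Y) := by ring
    _ ≤ _ := Nat.mul_le_mul_left _ (Nat.mul_le_mul_left _ h3)

theorem fixedSub_map (A : Subgroup M) (g : M) :
    fixedSub ρ (A.map (MulAut.conj g).toMonoidHom) = (fixedSub ρ A).map (ρ g).toMonoidHom := by
  ext u
  constructor
  · intro hu
    refine ⟨ρ g⁻¹ u, fun a ha => ?_, ?_⟩
    · have h := hu _ ⟨a, ha, rfl⟩
      simp only [MulEquiv.coe_toMonoidHom, MulAut.conj_apply, map_mul, MulAut.mul_apply] at h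
      apply (ρ g).injective
      rw [h, ← MulAut.mul_apply, ← map_mul, mul_inv_cancel, map_one, MulAut.one_apply]
    · change ρ g (ρ g⁻¹ u) = u
      rw [← MulAut.mul_apply, ← map_mul, mul_inv_cancel, map_one, MulAut.one_apply]
  · rintro ⟨v, hv, rfl⟩ _ ⟨a, ha, rfl⟩
    change ρ (g * a * g⁻¹) (ρ g v) = ρ g v
    rw [← MulAut.mul_apply, ← map_mul, inv_mul_cancel_right, map_mul, MulAut.mul_apply, hv a ha]

theorem card_fixedSub_map (A : Subgroup M) (g : M) :
    Nat.card (fixedSub ρ (A.map (MulAut.conj g).toMonoidHom)) = Nat.card (fixedSub ρ A) := by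
  rw [fixedSub_map, card_map_of_injective (ρ g).injective]

variable {ρ}

theorem Quadratic.inv_eq (h : Quadratic ρ) (u : U) : u⁻¹ = u := inv_eq_of_mul_eq_one_right (h.exp u)

theorem Quadratic.sq_eq_one (h : Quadratic ρ) {P : Subgroup M} (hP : IsPGroup 2 P) {x : M}
    (hx : x ∈ P) : x * x = 1 := by
  refine h.inj (MulEquiv.ext fun u => ?_)
  rw [map_mul, MulAut.mul_apply, map_one, MulAut.one_apply]
  have h1 := h.quad P hP x hx x hx u
  rw [map_mul, map_inv, h.inv_eq, h.inv_eq] at h1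
  calc ρ x (ρ x u) = ρ x (ρ x u) * ρ x u * ρ x u := by rw [mul_assoc, h.exp, mul_one]
    _ = ρ x u * u * ρ x u := by rw [h1]
    _ = u := by rw [mul_comm (ρ x u * u), ← mul_assoc, h.exp, one_mul]

theorem Quadratic.delta_mem (h : Quadratic ρ) {P : Subgroup M} (hP : IsPGroup 2 P) {x : M}
    (hx : x ∈ P) (u : U) : delta ρ x u ∈ fixedSub ρ P :=
  fun y hy => h.quad P hP x hx y hy u

/-- Two involutions commute as soon as `[[U, b], a]` is centralised by `b`. -/
theorem Quadratic.commute_of_rel (h : Quadratic ρ) {A B : Subgroup M} (hA : IsPGroup 2 A)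
    (hB : IsPGroup 2 B) {a b : M} (ha : a ∈ A) (hb : b ∈ B)
    (hrel : ∀ u, ρ b (delta ρ a (delta ρ b u)) = delta ρ a (delta ρ b u)) : Commute a b := by
  have ha2 := h.sq_eq_one hA ha
  have hb2 := h.sq_eq_one hB hb
  let α := delta ρ a
  let β := delta ρ b
  have hαα : ∀ u, α (α u) = 1 := fun u => by
    change ρ a (α u) * (α u)⁻¹ = 1
    rw [h.delta_mem hA ha u a ha, mul_inv_cancel]
  have hββ : ∀ u, β (β u) = 1 := fun u => by
    change ρ b (β u) * (β u)⁻¹ = 1
    rw [h.delta_mem hB hb u b hb, mul_inv_cancel]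
  have hβαβ : ∀ u, β (α (β u)) = 1 := fun u => by
    change ρ b (α (β u)) * (α (β u))⁻¹ = 1
    rw [hrel, mul_inv_cancel]
  let c := b * a * b
  have hc : ∀ u, ρ c u = u * (α u * β (α u) * α (β u)) := by
    intro u
    simp only [c, map_mul, MulAut.mul_apply, apply_eq ρ b, apply_eq ρ a, map_mul]
    change u * α u * (β u * β (α u)) * (β u * α (β u) * (β (β u) * β (α (β u)))) = _
    rw [hββ, hβαβ, mul_one, mul_one]
    calc u * α u * (β u * β (α u)) * (β u * α (β u))
        = u * (α u * β (α u) * α (β u)) * (β u * β u) := by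
          simp only [mul_comm, mul_left_comm, mul_assoc]
      _ = _ := by rw [h.exp, mul_one]
  have hc2 : c * c = 1 := by
    simp only [c, mul_assoc]
    rw [← mul_assoc b b, hb2, one_mul, ← mul_assoc a a, ha2, one_mul, hb2]
  have hab2 : (a * b) ^ 2 = a * c := by simp only [c, pow_two, mul_assoc]
  clear_value c
  have hac : Commute a c := by
    refine h.inj (MulEquiv.ext fun u => ?_)
    rw [map_mul, map_mul, MulAut.mul_apply, MulAut.mul_apply, hc u, hc (ρ a u), apply_eq ρ a u,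
      apply_eq ρ a]
    simp only [map_mul]
    change u * (α u * β (α u) * α (β u)) * (α u * (α (α u) * α (β (α u)) * α (α (β u)))) =
      u * α u * (α u * α (α u) * (β (α u) * β (α (α u))) * (α (β u) * α (β (α u))))
    simp only [hαα, map_one, mul_one, one_mul]
    simp only [mul_comm, mul_left_comm, mul_assoc]
  have h4 : (a * b) ^ 4 = 1 := by
    rw [show (4 : ℕ) = 2 * 2 from rfl, pow_mul, hab2, pow_two, mul_assoc, ← mul_assoc c a c,
      ← hac.eq, mul_assoc a c c, hc2, mul_one, ha2]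
  -- the dihedral group is a 2-group
  let X := zpowers (a * b)
  let Y := zpowers a
  have hX : IsPGroup 2 X := by
    rintro ⟨x, hx⟩
    obtain ⟨k, rfl⟩ := mem_zpowers_iff.1 hx
    refine ⟨2, Subtype.ext ?_⟩
    change ((a * b) ^ k) ^ (2 ^ 2 : ℕ) = 1
    rw [← zpow_natCast, ← zpow_mul, mul_comm, zpow_mul, zpow_natCast]
    norm_num [h4]
  have hY : IsPGroup 2 Y := hA.to_le (zpowers_le.2 ha)
  have hai : a⁻¹ = a := inv_eq_of_mul_eq_one_right ha2
  have hbi : b⁻¹ = b := inv_eq_of_mul_eq_one_right hb2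
  have hYX : Y ≤ normalizer (X : Set M) := by
    rw [zpowers_le, mem_normalizer_iff]
    intro y
    have hconj : ∀ z ∈ X, a * z * a⁻¹ ∈ X := by
      intro z hz
      obtain ⟨k, rfl⟩ := mem_zpowers_iff.1 hz
      rw [← conj_zpow, show a * (a * b) * a⁻¹ = (a * b)⁻¹ by
        rw [mul_inv_rev, hai, hbi, ← mul_assoc, ha2, one_mul]]
      exact zpow_mem (inv_mem (mem_zpowers _)) _
    refine ⟨hconj y, fun hy => ?_⟩
    have h1 := hconj _ hy
    rwa [show a * (a * y * a⁻¹) * a⁻¹ = y by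
      rw [hai, show a * (a * y * a) * a = a * a * y * (a * a) by group, ha2, one_mul, mul_one]] at h1
  have hP : IsPGroup 2 (Y ⊔ X : Subgroup M) := hY.to_sup_of_normal_right' hX hYX
  refine h.comm _ hP a (mem_sup_left (mem_zpowers a)) b ?_
  have : b = a * (a * b) := by rw [← mul_assoc, ha2, one_mul]
  rw [this]
  exact mul_mem (mem_sup_left (mem_zpowers a)) (mem_sup_right (mem_zpowers _))

theorem isPGroup_sup_of_commute {A B : Subgroup M} (hA : IsPGroup 2 A) (hB : IsPGroup 2 B)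
    (hAB : ∀ a ∈ A, ∀ b ∈ B, Commute a b) : IsPGroup 2 (A ⊔ B : Subgroup M) := by
  refine hA.to_sup_of_normal_right' hB fun a ha => mem_normalizer_iff.2 fun y => ?_
  constructor
  · intro hy
    rwa [(hAB a ha y hy).eq, mul_inv_cancel_right]
  · intro hy
    have h2 : a * y * a⁻¹ = a⁻¹ * (a * y * a⁻¹) * a := by
      rw [(hAB a⁻¹ (inv_mem ha) _ hy).eq, inv_mul_cancel_right]
    rw [show a⁻¹ * (a * y * a⁻¹) * a = y by group] at h2
    rwa [h2] at hy

/-- The data of a chosen pair. -/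
structure GoodPair (ρ : M →* MulAut U) (A B : Subgroup M) : Prop where
  pA : IsPGroup 2 A
  pB : IsPGroup 2 B
  noncomm : ¬ ∀ a ∈ A, ∀ b ∈ B, Commute a b
  card : Nat.card A = Nat.card B
  fixCard : Nat.card (fixedSub ρ A) = Nat.card (fixedSub ρ B)
  off : Nat.card U ≤ Nat.card B * Nat.card (fixedSub ρ B)
  small : ∀ C : Subgroup M, C ≠ ⊥ → C ≤ B → C ≠ B →
    Nat.card C * Nat.card (fixedSub ρ C) < Nat.card U
  maxInter : ∀ a ∈ A,
    Nat.card (fixedSub ρ A ⊓ fixedSub ρ B : Subgroup U) <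
      Nat.card (fixedSub ρ B ⊓ fixedSub ρ (B.map (MulAut.conj a).toMonoidHom) : Subgroup U) →
    ∀ b ∈ B, ∀ c ∈ B.map (MulAut.conj a).toMonoidHom, Commute b c

theorem GoodPair.commute_iff (h : Quadratic ρ) {A B : Subgroup M} (hp : GoodPair ρ A B) {a : M}
    (ha : a ∈ A) {f : U} (hf : f ∈ fixedSub ρ B) (hfA : f ∉ fixedSub ρ A) :
    delta ρ a f ∈ fixedSub ρ B ↔ ∀ b ∈ B, Commute a b := by
  constructor
  · intro hd b hb
    let C := B.map (MulAut.conj a).toMonoidHom
    have ha2 := h.sq_eq_one hp.pA ha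
    have haa : ∀ u, ρ a (ρ a u) = u := fun u => by
      rw [← MulAut.mul_apply, ← map_mul, ha2, map_one, MulAut.one_apply]
    have hai : a⁻¹ = a := inv_eq_of_mul_eq_one_right ha2
    have hlt : Nat.card (fixedSub ρ A ⊓ fixedSub ρ B : Subgroup U) <
        Nat.card (fixedSub ρ B ⊓ fixedSub ρ C : Subgroup U) := by
      have hmem : ∀ u ∈ fixedSub ρ B, ρ a u ∈ fixedSub ρ B → u ∈ fixedSub ρ C := by
        intro u _ hau
        rw [fixedSub_map]
        exact ⟨ρ a u, hau, haa u⟩
      have hfC : f ∈ fixedSub ρ C := hmem f hf (by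
        rw [apply_eq ρ a f]; exact mul_mem hf hd)
      have hle : fixedSub ρ A ⊓ fixedSub ρ B ≤ fixedSub ρ B ⊓ fixedSub ρ C := fun u hu =>
        ⟨hu.2, hmem u hu.2 (by rw [hu.1 a ha]; exact hu.2)⟩
      refine lt_of_le_of_ne (card_le_of_le hle) fun he => hfA ?_
      have := eq_of_le_of_card_ge hle he.ge
      exact (this ▸ (⟨hf, hfC⟩ : f ∈ fixedSub ρ B ⊓ fixedSub ρ C) :
        f ∈ fixedSub ρ A ⊓ fixedSub ρ B).1
    have hP : IsPGroup 2 (B ⊔ C : Subgroup M) :=
      isPGroup_sup_of_commute hp.pB (hp.pB.map _) (hp.maxInter a ha hlt)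
    refine h.commute_of_rel hp.pA hp.pB ha hb fun u => ?_
    have hv : ∀ v, ρ a (delta ρ b v) ∈ fixedSub ρ B := by
      intro v y hy
      have hcC : a * b * a ∈ C := ⟨b, hb, by simp [MulAut.conj_apply, hai]⟩
      have h1 := h.quad _ hP (a * b * a) (mem_sup_right hcC) y (mem_sup_left hy) (ρ a v)
      simp only [map_mul, MulAut.mul_apply, haa] at h1
      rwa [← map_mul (ρ y), show ρ a (ρ b v) * (ρ a v)⁻¹ = ρ a (delta ρ b v) by
        rw [delta_apply, map_mul, map_inv]] at h1
    have h2 : delta ρ a (delta ρ b u) ∈ fixedSub ρ B := by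
      rw [delta_apply]
      exact mul_mem (hv u) (inv_mem (h.delta_mem hp.pB hb u))
    exact h2 b hb
  · intro hc b hb
    rw [delta_apply, map_mul, map_inv, hf b hb, ← MulAut.mul_apply, ← map_mul, ← (hc b hb).eq,
      map_mul, MulAut.mul_apply, hf b hb]

/-- The map `a ↦ [f, a]`. -/
def commMap (h : Quadratic ρ) {A : Subgroup M} (hA : IsPGroup 2 A) (f : U)
    (K : Subgroup U) : A →* fixedSub ρ A ⧸ K.subgroupOf (fixedSub ρ A) :=
  (QuotientGroup.mk' (K.subgroupOf (fixedSub ρ A))).comp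
    { toFun := fun a => ⟨delta ρ (a : M) f, h.delta_mem hA a.2 f⟩
      map_one' := Subtype.ext (by simp [delta_apply])
      map_mul' := fun a a' => Subtype.ext (by
        change delta ρ ((a : M) * a') f = delta ρ (a : M) f * delta ρ (a' : M) f
        rw [delta_apply, map_mul, MulAut.mul_apply, apply_eq ρ (a' : M) f, map_mul,
          h.delta_mem hA a'.2 f a a.2, delta_apply ρ (a : M) f]
        simp only [mul_comm, mul_left_comm, mul_assoc]) }

theorem commMap_eq_one_iff (h : Quadratic ρ) {A : Subgroup M} (hA : IsPGroup 2 A) (f : U)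
    {B : Subgroup M} (a : A) :
    commMap h hA f (fixedSub ρ A ⊓ fixedSub ρ B) a = 1 ↔ delta ρ (a : M) f ∈ fixedSub ρ B := by
  change QuotientGroup.mk' _ _ = 1 ↔ _
  rw [QuotientGroup.mk'_apply, QuotientGroup.eq_one_iff, mem_subgroupOf]
  exact ⟨fun hh => hh.2, fun hh => ⟨h.delta_mem hA a.2 f, hh⟩⟩

theorem GoodPair.exists_f (h : Quadratic ρ) {A B : Subgroup M} (hp : GoodPair ρ A B) :
    ∃ f ∈ fixedSub ρ B, f ∉ fixedSub ρ A := by
  by_contra hall
  push Not at hall
  refine hp.noncomm fun a ha b hb => h.commute_of_rel hp.pA hp.pB ha hb fun u => ?_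
  have : delta ρ a (delta ρ b u) = 1 := by
    rw [delta_apply, hall _ (h.delta_mem hp.pB hb u) a ha, mul_inv_cancel]
  rw [this, map_one]

/-- The key inequality: the centralised parts are trivial. -/
theorem GoodPair.card_lt (h : Quadratic ρ) {A B : Subgroup M} (hp : GoodPair ρ A B)
    (hB0 : B ⊓ centralizer (A : Set M) ≠ ⊥) :
    Nat.card (B ⊓ centralizer (A : Set M) : Subgroup M) <
      Nat.card (A ⊓ centralizer (B : Set M) : Subgroup M) := by
  obtain ⟨f, hf, hfA⟩ := hp.exists_f h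
  set B0 := B ⊓ centralizer (A : Set M) with hB0def
  set K := fixedSub ρ A ⊓ fixedSub ρ B with hK
  let Z := fixedSub ρ A ⊓ fixedSub ρ B0
  let φ := commMap h hp.pA f K
  have hker : φ.ker = (A ⊓ centralizer (B : Set M)).subgroupOf A := by
    ext a
    rw [MonoidHom.mem_ker, commMap_eq_one_iff h hp.pA f a, hp.commute_iff h a.2 hf hfA,
      mem_subgroupOf]
    exact ⟨fun hc => ⟨a.2, mem_centralizer_iff.2 fun b hb => ((hc b hb).eq).symm⟩,
      fun hc b hb => (mem_centralizer_iff.1 hc.2 b hb).symm⟩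
  have hrange : φ.range ≤ (Z.subgroupOf (fixedSub ρ A)).map (QuotientGroup.mk' _) := by
    rintro _ ⟨a, rfl⟩
    refine ⟨_, ?_, rfl⟩
    refine ⟨h.delta_mem hp.pA a.2 f, fun b hb => ?_⟩
    have hab : Commute (a : M) b := mem_centralizer_iff.1 hb.2 a a.2
    change ρ b (delta ρ (a : M) f) = delta ρ (a : M) f
    rw [delta_apply, map_mul, map_inv, hf b hb.1, ← MulAut.mul_apply, ← map_mul, ← hab.eq,
      map_mul, MulAut.mul_apply, hf b hb.1]
  have hKZ : K ≤ Z := inf_le_inf_left _ (fixedSub_antitone ρ inf_le_left)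
  have hr : Nat.card φ.range * Nat.card K ≤ Nat.card Z := by
    have h1 := Nat.le_of_dvd Nat.card_pos (card_dvd_of_le hrange)
    refine le_trans (Nat.mul_le_mul_right _ h1) (le_of_eq ?_)
    have h2 := relIndex_mul_relIndex ⊥ K Z bot_le hKZ
    rw [relIndex_bot_left, relIndex_bot_left] at h2
    rw [← h2, mul_comm]
    congr 1
    rw [← relIndex_ker, QuotientGroup.ker_mk', relIndex_subgroupOf (inf_le_left : Z ≤ fixedSub ρ A)]
  have hA : Nat.card A =
      Nat.card (A ⊓ centralizer (B : Set M) : Subgroup M) * Nat.card φ.range := by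
    rw [← φ.ker.index_mul_card, index_ker, mul_comm, hker]
    congr 1
    exact Nat.card_congr (subgroupOfEquivOfLe inf_le_left).toEquiv
  have hB0B : B0 ≠ B := fun he => hp.noncomm fun a ha b hb =>
    mem_centralizer_iff.1 ((he.ge hb : b ∈ B0)).2 a ha
  have hsmall := hp.small B0 hB0 inf_le_left hB0B
  have hprod := card_mul_le (X := fixedSub ρ B) (Y := Z) (W := fixedSub ρ B0)
    (fixedSub_antitone ρ inf_le_left) inf_le_right
  have hinf : Nat.card (fixedSub ρ B ⊓ Z : Subgroup U) ≤ Nat.card K :=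
    card_le_of_le fun u hu => ⟨hu.2.1, hu.1⟩
  by_contra hle
  push Not at hle
  have hpos : 0 < Nat.card K := Nat.card_pos
  have key : Nat.card K * (Nat.card B * Nat.card (fixedSub ρ B)) ≤
      Nat.card K * (Nat.card B0 * Nat.card (fixedSub ρ B0)) := by
    calc Nat.card K * (Nat.card B * Nat.card (fixedSub ρ B))
        = Nat.card (A ⊓ centralizer (B : Set M) : Subgroup M) *
            (Nat.card (fixedSub ρ B) * (Nat.card φ.range * Nat.card K)) := by
          rw [← hp.card, hA]; ring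
      _ ≤ Nat.card B0 * (Nat.card (fixedSub ρ B) * Nat.card Z) := by gcongr
      _ ≤ Nat.card B0 * (Nat.card K * Nat.card (fixedSub ρ B0)) :=
          Nat.mul_le_mul_left _ (hprod.trans (Nat.mul_le_mul_right _ hinf))
      _ = _ := by ring
  have := Nat.le_of_mul_le_mul_left key hpos
  have := hp.off
  omega

/-- With trivial centralised parts, commutation with a point outside is onto. -/
theorem GoodPair.surjective (h : Quadratic ρ) {A B : Subgroup M} (hp : GoodPair ρ A B)
    (hA0 : A ⊓ centralizer (B : Set M) = ⊥) {f : U} (hf : f ∈ fixedSub ρ B)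
    (hfA : f ∉ fixedSub ρ A) :
    Function.Surjective (commMap h hp.pA f (fixedSub ρ A ⊓ fixedSub ρ B)) := by
  set K := fixedSub ρ A ⊓ fixedSub ρ B with hK
  let φ := commMap h hp.pA f K
  have hinj : Function.Injective φ := by
    rw [← MonoidHom.ker_eq_bot_iff, eq_bot_iff_forall]
    intro a ha
    have h1 := (hp.commute_iff h a.2 hf hfA).1 ((commMap_eq_one_iff h hp.pA f a).1 ha)
    refine Subtype.ext ?_
    change (a : M) = 1
    rw [← mem_bot, ← hA0]
    exact ⟨a.2, mem_centralizer_iff.2 fun b hb => ((h1 b hb).eq).symm⟩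
  have hcard : Nat.card (fixedSub ρ A ⧸ K.subgroupOf (fixedSub ρ A)) ≤ Nat.card A := by
    rw [← index_eq_card]
    change K.relIndex (fixedSub ρ A) ≤ _
    have h2 := relIndex_mul_relIndex ⊥ K (fixedSub ρ A) bot_le inf_le_left
    rw [relIndex_bot_left, relIndex_bot_left] at h2
    have h3 := card_mul_le (X := fixedSub ρ A) (Y := fixedSub ρ B) (W := ⊤) le_top le_top
    rw [card_top] at h3
    have h4 : Nat.card K * (K.relIndex (fixedSub ρ A) * Nat.card (fixedSub ρ B)) ≤
        Nat.card K * (Nat.card A * Nat.card (fixedSub ρ B)) := by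
      rw [← mul_assoc, h2, hp.card]
      exact h3.trans (Nat.mul_le_mul_left _ hp.off)
    exact Nat.le_of_mul_le_mul_right (Nat.le_of_mul_le_mul_left h4 Nat.card_pos) Nat.card_pos
  exact (hinj.bijective_of_nat_card_le hcard).2

/-- The configuration. -/
theorem exists_pair (h : Quadratic ρ) {A₀ : Subgroup M} (hA₀ : Offender ρ A₀) :
    ∃ (a b : M) (e f : U) (K : Subgroup U), (∀ k ∈ K, ρ a k = k ∧ ρ b k = k) ∧ e ∉ K ∧ f ∉ K ∧
      e * f ∉ K ∧ ρ a e = e ∧ ρ a f = e * f ∧ ρ b f = f ∧ ρ b e * (e * f)⁻¹ ∈ K := by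
  classical
  obtain ⟨A, hA, hmin⟩ := Set.exists_min_image {A : Subgroup M | Offender ρ A}
    (fun A => Nat.card A) (Set.toFinite _) ⟨A₀, hA₀⟩
  let cj : M → Subgroup M := fun g => A.map (MulAut.conj g).toMonoidHom
  have hcard : ∀ g, Nat.card (cj g) = Nat.card A := fun g =>
    card_map_of_injective (MulAut.conj g).injective
  have hfix : ∀ g, Nat.card (fixedSub ρ (cj g)) = Nat.card (fixedSub ρ A) := card_fixedSub_map ρ A
  have hcjcj : ∀ x g, (cj g).map (MulAut.conj x).toMonoidHom = cj (x * g) := fun x g => by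
    simp only [cj, Subgroup.map_map]
    congr 1
    ext y
    simp [MulAut.conj_apply, mul_assoc]
  let bad : Set (M × M) := {p | ¬ ∀ a ∈ cj p.1, ∀ b ∈ cj p.2, Commute a b}
  have hne : bad.Nonempty := by
    by_contra hall
    rw [Set.not_nonempty_iff_eq_empty, Set.eq_empty_iff_forall_notMem] at hall
    simp only [bad, Set.mem_setOf_eq, not_not, Prod.forall] at hall
    let s : Set M := {x | ∃ g, x ∈ cj g}
    have hsn : (closure s).Normal := ⟨fun x hx g => by
      have hx' : (MulAut.conj g).toMonoidHom x ∈ (closure s).map (MulAut.conj g).toMonoidHom :=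
        mem_map_of_mem _ hx
      rw [MonoidHom.map_closure] at hx'
      refine closure_mono ?_ hx'
      rintro _ ⟨y, ⟨g', hy⟩, rfl⟩
      exact ⟨g * g', hcjcj g g' ▸ mem_map_of_mem _ hy⟩⟩
    have hel : Cfsg.IsElementaryAbelian 2 (closure s) := PGroups.elemAb_closure
      (fun x hx y hy => by
        obtain ⟨g, hx⟩ := hx; obtain ⟨g', hy⟩ := hy
        exact hall g g' x hx y hy)
      (fun x hx => by
        obtain ⟨g, hx⟩ := hx
        rw [pow_two]; exact h.sq_eq_one (hA.2.1.map _) hx)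
    have hbot := h.core _ hsn (PGroups.elemAb_isPGroup hel)
    refine hA.1 (eq_bot_iff.2 fun x hx => ?_)
    rw [← hbot]
    exact subset_closure ⟨1, x, hx, by simp⟩
  obtain ⟨⟨g₁, g₂⟩, hbad, hmax⟩ := Set.exists_max_image bad
    (fun p => Nat.card (fixedSub ρ (cj p.1) ⊓ fixedSub ρ (cj p.2) : Subgroup U)) (Set.toFinite _) hne
  have hsmall : ∀ g, ∀ C : Subgroup M, C ≠ ⊥ → C ≤ cj g → C ≠ cj g →
      Nat.card C * Nat.card (fixedSub ρ C) < Nat.card U := by
    intro g C hC hle hne
    by_contra hc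
    push Not at hc
    have h1 := hmin C ⟨hC, (hA.2.1.map _).to_le hle, hc⟩
    exact hne (eq_of_le_of_card_ge hle ((hcard g).trans_le h1))
  have hpair : ∀ i j, (i, j) ∈ bad →
      (∀ p ∈ bad, Nat.card (fixedSub ρ (cj p.1) ⊓ fixedSub ρ (cj p.2) : Subgroup U) ≤
        Nat.card (fixedSub ρ (cj i) ⊓ fixedSub ρ (cj j) : Subgroup U)) →
      GoodPair ρ (cj i) (cj j) := by
    intro i j hb hm
    refine ⟨hA.2.1.map _, hA.2.1.map _, hb, by rw [hcard, hcard], by rw [hfix, hfix],
      by rw [hcard, hfix]; exact hA.2.2, hsmall j, fun a _ hlt => ?_⟩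
    by_contra hc
    rw [hcjcj] at hlt hc
    exact absurd (hm (j, a * j) hc) (not_le.2 hlt)
  have hp : GoodPair ρ (cj g₁) (cj g₂) := hpair _ _ hbad hmax
  have hp' : GoodPair ρ (cj g₂) (cj g₁) := hpair _ _
    (fun hc => hbad fun a ha b hb => (hc b hb a ha).symm)
    (fun p hp => (hmax p hp).trans (le_of_eq (by rw [inf_comm])))
  have hB0 : cj g₂ ⊓ centralizer (cj g₁ : Set M) = ⊥ := by
    by_contra hne
    have h1 := hp.card_lt h hne
    by_cases hA0 : cj g₁ ⊓ centralizer (cj g₂ : Set M) = ⊥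
    · rw [hA0, card_bot] at h1
      have : 0 < Nat.card (cj g₂ ⊓ centralizer (cj g₁ : Set M) : Subgroup M) := Nat.card_pos
      omega
    · have h2 := hp'.card_lt h hA0
      omega
  obtain ⟨f, hf, hfA⟩ := hp.exists_f h
  obtain ⟨a, ha, hna⟩ : ∃ a ∈ cj g₁, ¬ ∀ b ∈ cj g₂, Commute a b := by
    by_contra hall
    push Not at hall
    exact hbad hall
  set e := delta ρ a f with he
  have heA : e ∈ fixedSub ρ (cj g₁) := h.delta_mem hp.pA ha f
  have heB : e ∉ fixedSub ρ (cj g₂) := fun hh => hna ((hp.commute_iff h ha hf hfA).1 hh)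
  obtain ⟨⟨b, hb⟩, hbe⟩ := hp'.surjective h hB0 heA heB
    (QuotientGroup.mk' _ ⟨f, hf⟩)
  change QuotientGroup.mk' _ (⟨delta ρ b e, _⟩ : fixedSub ρ (cj g₂)) = _ at hbe
  rw [QuotientGroup.mk'_apply, QuotientGroup.mk'_apply, QuotientGroup.eq, mem_subgroupOf] at hbe
  change (delta ρ b e)⁻¹ * f ∈ _ at hbe
  refine ⟨a, b, e, f, fixedSub ρ (cj g₁) ⊓ fixedSub ρ (cj g₂),
    fun k hk => ⟨hk.1 a ha, hk.2 b hb⟩, fun hh => heB hh.2, fun hh => hfA hh.1, fun hh => ?_,
    heA a ha, ?_, hf b hb, ?_⟩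
  · refine hfA ?_
    have := mul_mem (inv_mem heA) hh.1
    rwa [inv_mul_cancel_left] at this
  · rw [apply_eq ρ a f, mul_comm]
  · rw [inf_comm]
    have h2 : ρ b e * (e * f)⁻¹ = ((delta ρ b e)⁻¹ * f) := by
      rw [apply_eq ρ b e, mul_inv, h.inv_eq, h.inv_eq, h.inv_eq]
      calc e * delta ρ b e * (e * f) = e * e * (delta ρ b e * f) := by
            simp only [mul_comm, mul_left_comm, mul_assoc]
        _ = _ := by rw [h.exp, one_mul]
    rw [h2]
    exact hbe

end Cfsg.Agent.Lib.FourFree.Pair
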