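import Cfsg.Agent.Lib.FourFree.Section
import Cfsg.Agent.Lib.FourFree.Pair
import Cfsg.Agent.Lib.Frobenius.PComplement

/-!
# Glauberman's factorisation for `Sym(4)`-free groups with Sylow 2-subgroups of class at most 2

`factorization_two` : a 2-constrained `Sym(4)`-free group with Sylow 2-subgroup `S` of class at most
two is `N_G(J_e(S)) O(G)`.
-/

set_option autoImplicit false
set_option linter.unusedSectionVars false

namespace Cfsg.Agent.Lib.FourFree.Class2

open Subgroup
open scoped Pointwise commutatorElement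

universe u

variable {G : Type u} [Group G] [Finite G]

/-- The elements acting trivially on `X` modulo `Y`. -/
def actKer (X Y : Subgroup G) [Y.Normal] : Subgroup G where
  carrier := {g | ∀ x ∈ X, g * x * g⁻¹ * x⁻¹ ∈ Y}
  mul_mem' {g h} hg hh x hx := by
    have h1 : g * (h * x * h⁻¹ * x⁻¹) * g⁻¹ * (g * x * g⁻¹ * x⁻¹) ∈ Y :=
      mul_mem (Normal.conj_mem inferInstance _ (hh x hx) g) (hg x hx)
    convert h1 using 1
    group
  one_mem' x _ := by simp [Y.one_mem]
  inv_mem' {g} hg x hx := by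
    have h1 := Normal.conj_mem (inferInstance : Y.Normal) _ (inv_mem (hg x hx)) g⁻¹
    convert h1 using 1
    group

theorem actKer_normal (X Y : Subgroup G) [X.Normal] [Y.Normal] : (actKer X Y).Normal :=
  ⟨fun g hg k x hx => by
    have h1 := Normal.conj_mem (inferInstance : Y.Normal) _
      (hg _ (Normal.conj_mem (inferInstance : X.Normal) x hx k⁻¹)) k
    convert h1 using 1
    group⟩

theorem eq_one_of_comm_fixed {g x : G} {k : ℕ} (hg : (orderOf g).Coprime 2)
    (hc : g * (g * x * g⁻¹ * x⁻¹) * g⁻¹ = g * x * g⁻¹ * x⁻¹)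
    (hck : (g * x * g⁻¹ * x⁻¹) ^ 2 ^ k = 1) : g * x * g⁻¹ = x := by
  set c := g * x * g⁻¹ * x⁻¹ with hcdef
  have hgx : g * x * g⁻¹ = c * x := by rw [hcdef, inv_mul_cancel_right]
  have hstep : ∀ n : ℕ, g ^ n * x * (g ^ n)⁻¹ = c ^ n * x := by
    intro n
    induction n with
    | zero => simp
    | succ n ih =>
        calc g ^ (n + 1) * x * (g ^ (n + 1))⁻¹ = g * (g ^ n * x * (g ^ n)⁻¹) * g⁻¹ := by
              rw [pow_succ']; group
          _ = g * c ^ n * g⁻¹ * (g * x * g⁻¹) := by rw [ih]; group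
          _ = c ^ n * (c * x) := by rw [← conj_pow, hc, hgx]
          _ = _ := by rw [pow_succ, mul_assoc (c ^ n) c x]
  have h1 := hstep (orderOf g)
  rw [pow_orderOf_eq_one, one_mul, inv_one, mul_one] at h1
  have h2 : c ^ orderOf g = 1 := mul_eq_right.1 h1.symm
  have h3 := pow_gcd_eq_one.mpr ⟨h2, hck⟩
  rw [Nat.Coprime.pow_right k hg, pow_one] at h3
  rw [hgx, h3, one_mul]

theorem exists_conj_sylow {N : Subgroup G} [N.Normal] (S : Sylow 2 G) {P : Subgroup (G ⧸ N)}
    (hP : IsPGroup 2 P) :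
    ∃ g : G, ∀ x ∈ P, ∃ s ∈ (S : Subgroup G), QuotientGroup.mk' N (g * s * g⁻¹) = x := by
  obtain ⟨P', hP'⟩ := hP.exists_le_sylow
  obtain ⟨m, hm⟩ := MulAction.exists_smul_eq (G ⧸ N)
    (S.mapSurjective (QuotientGroup.mk'_surjective N)) P'
  obtain ⟨g, rfl⟩ := QuotientGroup.mk'_surjective N m
  refine ⟨g, fun x hx => ?_⟩
  have h1 : x ∈ (P' : Subgroup (G ⧸ N)) := hP' hx
  rw [← hm] at h1
  obtain ⟨_, ⟨s, hs, rfl⟩, rfl⟩ := h1
  exact ⟨s, hs, by simp⟩

theorem normalizer_thompson_eq_top (hS4 : ¬ Cfsg.Involves (Equiv.Perm (Fin 4)) G) (S : Sylow 2 G)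
    (hcl : (S : Subgroup G).lowerCentralSeries 2 = ⊥)
    (hC : centralizer (Cfsg.pCore 2 G : Set G) ≤ Cfsg.pCore 2 G) :
    normalizer ((Cfsg.thompsonSubgroupOf 2 (S : Subgroup G)) : Set G) = ⊤ := by
  classical
  set Q := Cfsg.pCore 2 G with hQdef
  have hQS : Q ≤ (S : Subgroup G) := Cores.pCore_le_sylow S
  have hQ2 : IsPGroup 2 Q := Cores.pCore_isPGroup 2
  set ZS := (S : Subgroup G) ⊓ centralizer ((S : Subgroup G) : Set G) with hZSdef
  have hcomm : ∀ x ∈ (S : Subgroup G), ∀ y ∈ (S : Subgroup G), x * y * x⁻¹ * y⁻¹ ∈ ZS := by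
    intro x hx y hy
    have h1 : ⁅(S : Subgroup G), (S : Subgroup G)⁆ ≤ centralizer ((S : Subgroup G) : Set G) := by
      rw [← commutator_eq_bot_iff_le_centralizer, ← hcl, Subgroup.lowerCentralSeries_succ,
        Subgroup.lowerCentralSeries_succ, Subgroup.lowerCentralSeries_zero]
    exact mem_inf.2 ⟨mul_mem (mul_mem (mul_mem hx hy) (inv_mem hx)) (inv_mem hy),
      h1 (commutator_mem_commutator hx hy)⟩
  have hZSC : ZS ≤ centralizer (Q : Set G) := fun x hx =>
    mem_centralizer_iff.2 fun q hq => mem_centralizer_iff.1 hx.2 q (hQS hq)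
  have hCc : ∀ x ∈ centralizer (Q : Set G), ∀ y ∈ centralizer (Q : Set G), x * y = y * x :=
    fun x hx y hy => mem_centralizer_iff.mp hy x (hC hx)
  let P : Subgroup G :=
    { carrier := {x | x ∈ centralizer (Q : Set G) ∧ x ^ 2 = 1}
      mul_mem' := fun {x y} hx hy => ⟨mul_mem hx.1 hy.1, by
        rw [Commute.mul_pow (hCc x hx.1 y hy.1), hx.2, hy.2, one_mul]⟩
      one_mem' := ⟨one_mem _, one_pow 2⟩
      inv_mem' := fun {x} hx => ⟨inv_mem hx.1, by rw [inv_pow, hx.2, inv_one]⟩ }
  have hPn : P.Normal := ⟨fun x hx g => ⟨Normal.conj_mem inferInstance x hx.1 g,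
    by rw [conj_pow, hx.2]; group⟩⟩
  let W := normalClosure {x : G | x ∈ ZS ∧ x ^ 2 = 1}
  have hWP : W ≤ P := normalClosure_le_normal fun x hx => ⟨hZSC hx.1, hx.2⟩
  have hWQ : W ≤ Q := fun x hx => hC (hWP hx).1
  have hWel : Cfsg.IsElementaryAbelian 2 W :=
    PGroups.elemAb_mk (fun a ha b hb => hCc a (hWP ha).1 b (hWP hb).1) fun a ha => (hWP ha).2
  set C := centralizer (W : Set G) with hCdef
  have hQC : Q ≤ C := fun q hq => mem_centralizer_iff.2 fun w hw =>
    ((mem_centralizer_iff.1 (hWP hw).1) q hq).symm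
  have hWn : W.Normal := normalClosure_normal
  have hCn : C.Normal := inferInstance
  -- `J(S) ≤ C_G(W)`
  have hAC : ∀ A ∈ PGroups.maxElemAbIn 2 (S : Subgroup G), A ≤ C := by
    intro A hA
    by_contra hAC
    let π := QuotientGroup.mk' C
    let _ : CommGroup W := { W.toGroup with mul_comm := hWel.1.is_comm.comm }
    let ρ : G ⧸ C →* MulAut W := QuotientGroup.lift C (MulAut.conjNormal (H := W)) (fun x hx =>
      MulEquiv.ext fun w => Subtype.ext (by
        rw [MulAut.conjNormal_apply, MulAut.one_apply,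
          ← mem_centralizer_iff.mp hx w w.2, mul_inv_cancel_right]))
    have hρ : ∀ (g : G) (w : W), (ρ (π g) w : G) = g * w * g⁻¹ := fun g w => rfl
    have hq : Pair.Quadratic ρ := by
      refine ⟨?_, fun w => Subtype.ext (by simpa [pow_two] using hWel.2 w w.2), ?_, ?_, ?_⟩
      · rw [← MonoidHom.ker_eq_bot_iff, eq_bot_iff_forall]
        intro m hm
        obtain ⟨g, rfl⟩ := QuotientGroup.mk'_surjective C m
        refine (QuotientGroup.eq_one_iff g).2 (mem_centralizer_iff.2 fun w hw => ?_)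
        have h1 : (ρ (π g) ⟨w, hw⟩ : G) = w :=
          congrArg Subtype.val (MulEquiv.congr_fun (MonoidHom.mem_ker.1 hm) ⟨w, hw⟩)
        rw [hρ] at h1
        exact (mul_inv_eq_iff_eq_mul.1 h1).symm
      · intro R hR x hx y hy
        obtain ⟨g, hg⟩ := exists_conj_sylow S hR
        obtain ⟨s, hs, rfl⟩ := hg x hx
        obtain ⟨t, ht, rfl⟩ := hg y hy
        refine commutatorElement_eq_one_iff_commute.1 ?_
        rw [← map_commutatorElement]
        refine (QuotientGroup.eq_one_iff _).2 (hQC ?_)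
        rw [show ⁅g * s * g⁻¹, g * t * g⁻¹⁆ = g * (s * t * s⁻¹ * t⁻¹) * g⁻¹ by
          rw [commutatorElement_def]; group]
        exact Normal.conj_mem inferInstance _ (hC (hZSC (hcomm s hs t ht))) g
      · intro R hR x hx y hy w
        obtain ⟨g, hg⟩ := exists_conj_sylow S hR
        obtain ⟨s, hs, rfl⟩ := hg x hx
        obtain ⟨t, ht, rfl⟩ := hg y hy
        refine Subtype.ext ?_
        rw [hρ, Subgroup.coe_mul, Subgroup.coe_inv, hρ]
        have hw : g⁻¹ * (w : G) * g⁻¹⁻¹ ∈ W := hWn.conj_mem _ w.2 g⁻¹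
        set w' := g⁻¹ * (w : G) * g⁻¹⁻¹ with hw'
        set z := s * w' * s⁻¹ * w'⁻¹ with hz
        have hzt : t * z * t⁻¹ = z := by
          rw [mem_centralizer_iff.1 (hcomm s hs w' (hQS (hWQ hw))).2 t ht, mul_inv_cancel_right]
        have e : g * s * g⁻¹ * (w : G) * (g * s * g⁻¹)⁻¹ * (w : G)⁻¹ = g * z * g⁻¹ := by
          rw [hz, hw']; group
        rw [e, show g * t * g⁻¹ * (g * z * g⁻¹) * (g * t * g⁻¹)⁻¹ = g * (t * z * t⁻¹) * g⁻¹ by
          group, hzt]
      · intro N hN hN2
        let L := N.comap π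
        have hNS : N ≤ (S : Subgroup G).map π := by
          rw [← Sylow.coe_mapSurjective (QuotientGroup.mk'_surjective C) S]
          exact (Cores.le_pCore hN2).trans (Cores.pCore_le_sylow _)
        have hΩ : {x : G | x ∈ ZS ∧ x ^ 2 = 1} ⊆ centralizer (L : Set G) := by
          intro x hx
          refine mem_centralizer_iff.2 fun l hl => ?_
          obtain ⟨s, hs, hsl⟩ := hNS hl
          have hc : s⁻¹ * l ∈ C := QuotientGroup.eq.1 hsl
          have hxW : x ∈ W := subset_normalClosure hx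
          have h1 : (s⁻¹ * l) * x = x * (s⁻¹ * l) := (mem_centralizer_iff.1 hc x hxW).symm
          have h2 : s * x = x * s := mem_centralizer_iff.1 hx.1.2 s hs
          calc l * x = s * (s⁻¹ * l * x) := by group
            _ = s * x * (s⁻¹ * l) := by rw [h1, mul_assoc]
            _ = x * s * (s⁻¹ * l) := by rw [h2]
            _ = x * l := by group
        have hWL : W ≤ centralizer (L : Set G) := normalClosure_le_normal hΩ
        refine eq_bot_iff.2 fun m hm => ?_
        obtain ⟨l, rfl⟩ := QuotientGroup.mk'_surjective C m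
        refine (QuotientGroup.eq_one_iff l).2 (mem_centralizer_iff.2 fun w hw => ?_)
        exact (mem_centralizer_iff.1 (hWL hw) l hm).symm
    -- `A` offends on `W`
    have hoff : Pair.Offender ρ (A.map π) := by
      refine ⟨?_, (S.2.to_le hA.1).map _, ?_⟩
      · rw [Ne, Subgroup.map_eq_bot_iff, QuotientGroup.ker_mk']; exact hAC
      let B := (A ⊓ C) ⊔ W
      have hB : Cfsg.IsElementaryAbelian 2 B :=
        PGroups.elemAb_sup (PGroups.elemAb_mono hA.2.1 inf_le_left) hWel
          fun a ha w hw => (mem_centralizer_iff.1 ha.2 w hw).symm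
      have hBA : Nat.card B ≤ Nat.card A :=
        hA.2.2 B (sup_le (inf_le_left.trans hA.1) (hWQ.trans hQS)) hB
      have hBcard : Nat.card B * Nat.card ((A ⊓ C) ⊓ W : Subgroup G) =
          Nat.card (A ⊓ C : Subgroup G) * Nat.card W := by
        have h1 := relIndex_mul_relIndex (⊥ : Subgroup G) W B bot_le le_sup_right
        have h2 := relIndex_mul_relIndex (⊥ : Subgroup G) ((A ⊓ C) ⊓ W) (A ⊓ C) bot_le inf_le_left
        rw [relIndex_bot_left, relIndex_bot_left] at h1 h2
        rw [relIndex_sup_right] at h1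
        rw [inf_relIndex_left] at h2
        rw [← h1, ← h2]; ring
      have hAb : Nat.card (A.map π) * Nat.card (A ⊓ C : Subgroup G) = Nat.card A := by
        have h1 := relIndex_mul_relIndex (⊥ : Subgroup G) (A ⊓ C) A bot_le inf_le_left
        rw [relIndex_bot_left, relIndex_bot_left, inf_relIndex_left] at h1
        rw [← h1, mul_comm]
        congr 1
        have h2 := relIndex_ker (K := A) π
        rw [QuotientGroup.ker_mk'] at h2
        exact h2.symm
      have hfix : Nat.card ((A ⊓ C) ⊓ W : Subgroup G) ≤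
          Nat.card (Frobenius.QuadraticAbelian.fixedSub ρ (A.map π)) := by
        refine Nat.card_le_card_of_injective (fun w => ⟨⟨w.1, w.2.2⟩, ?_⟩)
          (fun u v h => Subtype.ext ?_)
        · rintro _ ⟨a, ha, rfl⟩
          refine Subtype.ext ?_
          rw [hρ]
          change a * (w : G) * a⁻¹ = w
          rw [PGroups.elemAb_comm hA.2.1 ha w.2.1.1, mul_inv_cancel_right]
        · exact congrArg (fun t : Frobenius.QuadraticAbelian.fixedSub ρ (A.map π) =>
            ((t : W) : G)) h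
      have key : Nat.card (A ⊓ C : Subgroup G) * Nat.card W ≤ Nat.card (A ⊓ C : Subgroup G) *
          (Nat.card (A.map π) * Nat.card (Frobenius.QuadraticAbelian.fixedSub ρ (A.map π))) := by
        rw [← hBcard, ← mul_assoc, mul_comm (Nat.card (A ⊓ C : Subgroup G)), hAb]
        exact Nat.mul_le_mul hBA hfix
      exact Nat.le_of_mul_le_mul_left key Nat.card_pos
    obtain ⟨a, b, e, f, K, hK, he, hf, hef, hae, haf, hbf, hbe⟩ := Pair.exists_pair hq hoff
    obtain ⟨a', rfl⟩ := QuotientGroup.mk'_surjective C a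
    obtain ⟨b', rfl⟩ := QuotientGroup.mk'_surjective C b
    have hKmem : ∀ w : W, (w : G) ∈ K.map W.subtype → w ∈ K := fun w hw => by
      obtain ⟨v, hv, hvw⟩ := hw
      rwa [← W.subtype_injective hvw]
    have hWc : ∀ x y : W, (x : G) * (y : G) * (x : G)⁻¹ = y := fun x y => by
      rw [show (x : G) * (y : G) = y * x from congrArg Subtype.val (hWel.1.is_comm.comm x y),
        mul_inv_cancel_right]
    have hWe : ∀ x : W, (x : G) * (x : G) = 1 := fun x => by
      rw [← pow_two]; exact hWel.2 x x.2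
    refine hS4 (Section.involves_s4_section (a := a') (b := b') (e := (e : G)) (f := (f : G))
      (K.map W.subtype) ?_ ?_ ?_ ?_ ?_ ?_ ?_ ?_ ?_ ?_ ?_)
    · rintro _ ⟨k, hk, rfl⟩ g hg
      rcases hg with rfl | rfl | rfl | rfl
      · exact (hρ _ k).symm.trans (congrArg Subtype.val (hK k hk).1)
      · exact (hρ _ k).symm.trans (congrArg Subtype.val (hK k hk).2)
      · exact hWc e k
      · exact hWc f k
    · rw [hWe]; exact one_mem _
    · rw [hWe]; exact one_mem _
    · rw [hWc, mul_inv_cancel]; exact one_mem _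
    · exact fun h => he (hKmem e h)
    · exact fun h => hf (hKmem f h)
    · intro h
      refine hef ?_
      have h1 := hKmem (e⁻¹ * f) (by simpa using h)
      rwa [hq.inv_eq] at h1
    · rw [← hρ, congrArg Subtype.val hae, mul_inv_cancel]; exact one_mem _
    · rw [← hρ, congrArg Subtype.val haf, Subgroup.coe_mul, mul_inv_cancel]; exact one_mem _
    · rw [← hρ, congrArg Subtype.val hbf, mul_inv_cancel]; exact one_mem _
    · exact ⟨_, hbe, by simp [← hρ, π]⟩
  -- the normal closure of `S ∩ C_G(W)`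
  set T := (S : Subgroup G) ⊓ C with hTdef
  let L := normalClosure (T : Set G)
  have hLn : L.Normal := normalClosure_normal
  have hLC : L ≤ C := normalClosure_le_normal fun x hx => hx.2
  have := actKer_normal Q (centralizer (Q : Set G))
  have := actKer_normal P W
  have hL1 : L ≤ actKer Q (centralizer (Q : Set G)) := normalClosure_le_normal fun t ht q hq =>
    hZSC (hcomm t ht.1 q (hQS hq))
  have hL2 : L ≤ actKer P W := normalClosure_le_normal fun t ht x hx => by
    refine subset_normalClosure ⟨hcomm t ht.1 x (hQS (hC hx.1)), ?_⟩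
    exact (mul_mem (hPn.conj_mem x hx t) (inv_mem hx)).2
  have hodd : ∀ g ∈ L, (orderOf g).Coprime 2 → g = 1 := by
    intro g hg hgo
    have hP : ∀ x ∈ P, g * x * g⁻¹ = x := fun x hx => by
      have hcW := hL2 hg x hx
      refine eq_one_of_comm_fixed (k := 1) hgo ?_ ?_
      · have h1 := mem_centralizer_iff.1 (hLC hg) _ hcW
        rw [← h1, mul_inv_cancel_right]
      · rw [pow_one]; exact hWel.2 _ hcW
    have hCQ : ∀ x ∈ centralizer (Q : Set G), g * x * g⁻¹ = x :=
      Frobenius.PComplement.centralizes_of_fixes_omega (p := 2) (hQ2.to_le hC) hCc hgo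
        (fun x hx => Normal.conj_mem inferInstance x hx g) (fun x hx hx2 => hP x ⟨hx, hx2⟩)
    have hQ : ∀ x ∈ Q, g * x * g⁻¹ = x := fun x hx => by
      have hcC := hL1 hg x hx
      obtain ⟨k, hk⟩ := hQ2 ⟨_, hC hcC⟩
      exact eq_one_of_comm_fixed (k := k) hgo (hCQ _ hcC) (congrArg Subtype.val hk)
    have hgQ : g ∈ Q := hC (mem_centralizer_iff.2 fun x hx =>
      (mul_inv_eq_iff_eq_mul.1 (hQ x hx)).symm)
    exact congrArg Subtype.val (Lib.Transfer.PResidual.eq_one_of_pGroup_of_coprime hQ2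
      (a := (⟨g, hgQ⟩ : Q)) (by rwa [Subgroup.orderOf_mk]))
  have hL2' : IsPGroup 2 L := by
    rw [IsPGroup.iff_orderOf]
    intro x
    obtain ⟨a, b, ha, hb, hab, -, ⟨k, hk⟩, hbp⟩ :=
      Lib.Transfer.PResidual.exists_pPart_mul_pPrimePart (p := 2) x (isOfFinOrder_of_finite x)
    have hb1 : (b : G) = 1 := hodd b b.2 (by rwa [Subgroup.orderOf_coe])
    rw [show b = 1 from Subtype.ext hb1, mul_one] at hab
    subst hab
    obtain ⟨i, -, hi⟩ := (Nat.dvd_prime_pow Nat.prime_two).mp (orderOf_dvd_of_pow_eq_one hk)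
    exact ⟨i, hi⟩
  have hLT : L = T := le_antisymm
    (le_inf ((Cores.le_pCore hL2').trans hQS) hLC) fun x hx => subset_normalClosure hx
  have hJT : Cfsg.thompsonSubgroupOf 2 (S : Subgroup G) ≤ T :=
    le_inf (PGroups.thompsonSubgroupOf_le 2 _) (by
      rw [PGroups.thompsonSubgroupOf_eq]
      exact sSup_le hAC)
  refine top_le_iff.1 ?_
  rw [← PGroups.thompsonSubgroupOf_eq_of_le inf_le_left hJT]
  refine le_trans ?_ (PGroups.normalizer_le_normalizer_thompson T)
  rw [← hLT, normalizer_eq_top_iff.mpr hLn]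

/-- `G = N_G(J_e(S)) O(G)`. -/
theorem factorization_two (hcon : Cfsg.IsPConstrained 2 G)
    (hS4 : ¬ Cfsg.Involves (Equiv.Perm (Fin 4)) G) (S : Sylow 2 G)
    (hcl : (S : Subgroup G).lowerCentralSeries 2 = ⊥) :
    normalizer ((Cfsg.thompsonSubgroupOf 2 (S : Subgroup G)) : Set G) ⊔ Cfsg.pPrimeCore 2 G = ⊤ := by
  let M := Cfsg.pPrimeCore 2 G
  let f := QuotientGroup.mk' M
  have hfs : Function.Surjective f := QuotientGroup.mk'_surjective M
  have hM : ¬ 2 ∣ Nat.card M := Cores.not_dvd_card_pPrimeCore 2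
  have hinj : Function.Injective (f.comp (S : Subgroup G).subtype) := by
    rw [← MonoidHom.ker_eq_bot_iff, eq_bot_iff_forall]
    intro x hx
    exact Subtype.ext (disjoint_def.mp (Transfer.PResidual.disjoint_of_not_dvd hM S.2)
      ((QuotientGroup.eq_one_iff (x : G)).mp hx) x.2)
  have h1 := normalizer_thompson_eq_top (G := G ⧸ M)
    (fun h => hS4 (Transfer.InvolvesS4.involves_of_surjective f hfs h)) (S.mapSurjective hfs)
    (by rw [Sylow.coe_mapSurjective, ← Subgroup.map_lowerCentralSeries, hcl, Subgroup.map_bot])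
    (PSolvable.isPConstrained_iff.1 hcon)
  rw [Sylow.coe_mapSurjective,
    ← Frobenius.PComplement.map_thompsonSubgroupOf_of_injOn f _ hinj,
    ← Balance.map_normalizer_eq hfs (by rwa [QuotientGroup.ker_mk'])
      (S.2.to_le (PGroups.thompsonSubgroupOf_le 2 _))] at h1
  have h2 := congrArg (Subgroup.comap f) h1
  rwa [Subgroup.comap_map_eq, QuotientGroup.ker_mk', Subgroup.comap_top] at h2

end Cfsg.Agent.Lib.FourFree.Class2
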