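import Mathlib
import Cfsg.Agent.Lib.Transfer.InvolvesS4
import Cfsg.Agent.Lib.Coprime.Conjugacy

/-!
# Two elements inducing the symmetric group on a four-group section give a section `Sym(4)`

`involves_s4` : `e, f` generate a four-group, `a` fixes `e` and exchanges `f` with `e * f`, `b` fixes
`f` and exchanges `e` with `e * f`.  No assumption on the orders of `a` and `b`.
`involves_s4_section` : the same modulo a subgroup centralized by the four elements.
-/

set_option autoImplicit false

namespace Cfsg.Agent.Lib.FourFree.Section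

open Subgroup

universe u

variable {G : Type u} [Group G] [Finite G]

theorem card_mulAut_le {Y : Type*} [Group Y] [Finite Y] (hY : Nat.card Y = 4) {e f : Y}
    (he : e ≠ 1) (hf : f ≠ 1) (hne : e ≠ f) (hgen : closure ({e, f} : Set Y) = ⊤) :
    Nat.card (MulAut Y) ≤ 6 := by
  classical
  have := Fintype.ofFinite Y
  let S : Finset (Y × Y) := (Finset.univ.erase (1 : Y)).offDiag
  have hS : S.card = 6 := by
    rw [Finset.offDiag_card, Finset.card_erase_of_mem (Finset.mem_univ _), Finset.card_univ,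
      ← Nat.card_eq_fintype_card, hY]
  let F : MulAut Y → S := fun σ => ⟨(σ e, σ f), by
    simp [S, Finset.mem_offDiag, he, hf, hne, map_eq_one_iff σ σ.injective]⟩
  have hF : Function.Injective F := by
    intro σ τ h
    have h1 := congrArg (fun z : S => z.1.1) h
    have h2 := congrArg (fun z : S => z.1.2) h
    refine MulEquiv.ext fun y => ?_
    have hy : y ∈ closure ({e, f} : Set Y) := hgen ▸ mem_top y
    refine MonoidHom.eqOn_closure (f := σ.toMonoidHom) (g := τ.toMonoidHom) ?_ hy
    rintro z (rfl | rfl)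
    · exact h1
    · exact h2
  have := Nat.card_le_card_of_injective F hF
  rwa [Nat.card_eq_fintype_card (α := S), Fintype.card_coe, hS] at this

theorem involves_s4 {a b e f : G} (hee : e * e = 1) (hff : f * f = 1) (hef : e * f = f * e)
    (he : e ≠ 1) (hf : f ≠ 1) (hne : e ≠ f) (ha1 : a * e * a⁻¹ = e) (ha2 : a * f * a⁻¹ = e * f)
    (hb1 : b * f * b⁻¹ = f) (hb2 : b * e * b⁻¹ = e * f) :
    Cfsg.Involves (Equiv.Perm (Fin 4)) G := by
  classical
  -- the four-group
  let Y := closure ({e, f} : Set G)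
  have hefne : e * f ≠ 1 := fun h => hne (by
    calc e = e * (f * f) := by rw [hff, mul_one]
      _ = f := by rw [← mul_assoc, h, one_mul])
  have hei : e⁻¹ = e := inv_eq_of_mul_eq_one_right hee
  have hfi : f⁻¹ = f := inv_eq_of_mul_eq_one_right hff
  have hYset : (Y : Set G) = {1, e, f, e * f} := by
    refine Set.Subset.antisymm ?_ ?_
    · intro y hy
      induction hy using closure_induction with
      | mem y hy => rcases hy with rfl | rfl <;> simp
      | one => simp
      | mul x y _ _ hx hy =>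
          have h1 : e * (e * f) = f := by rw [← mul_assoc, hee, one_mul]
          have h2 : f * (e * f) = e := by rw [← mul_assoc, ← hef, mul_assoc, hff, mul_one]
          have h3 : e * f * e = f := by rw [mul_assoc, ← hef, h1]
          have h4 : e * f * f = e := by rw [mul_assoc, hff, mul_one]
          have h5 : e * f * (e * f) = 1 := by rw [← mul_assoc, h3, hff]
          rcases hx with rfl | rfl | rfl | rfl <;> rcases hy with rfl | rfl | rfl | rfl <;>
            simp [hee, hff, ← hef, h1, h2, h3, h4, h5]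
      | inv x _ hx =>
          rcases hx with rfl | rfl | rfl | rfl <;> simp [hei, hfi, hef]
    · rintro y (rfl | rfl | rfl | rfl)
      · exact Y.one_mem
      · exact subset_closure (by simp)
      · exact subset_closure (by simp)
      · exact Y.mul_mem (subset_closure (by simp)) (subset_closure (by simp))
  have heY : e ∈ Y := subset_closure (by simp)
  have hfY : f ∈ Y := subset_closure (by simp)
  have hY4 : Nat.card Y = 4 := by
    change Nat.card ((Y : Set G) : Type _) = 4
    rw [hYset, Nat.card_coe_set_eq, Set.ncard_eq_toFinset_card']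
    simp [Finset.card_insert_of_notMem, he, hf, hne, hefne, Ne.symm he, Ne.symm hf, Ne.symm hefne]
  -- `L` normalises it
  let L := closure ({a, b} : Set G)
  have hnorm : ∀ g : G, g * e * g⁻¹ ∈ Y → g * f * g⁻¹ ∈ Y → g ∈ normalizer (Y : Set G) := by
    intro g h1 h2
    have hle : Y.map (MulAut.conj g).toMonoidHom ≤ Y := by
      rw [MonoidHom.map_closure, closure_le]
      rintro _ ⟨y, rfl | rfl, rfl⟩
      · exact h1
      · exact h2
    have heq := eq_of_le_of_card_ge hle
      (by rw [card_map_of_injective (MulAut.conj g).injective])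
    refine mem_normalizer_iff.2 fun y => ⟨fun hy => ?_, fun hy => ?_⟩
    · exact heq ▸ ⟨y, hy, rfl⟩
    · have hy' : g * y * g⁻¹ ∈ Y.map (MulAut.conj g).toMonoidHom := by rw [heq]; exact hy
      obtain ⟨z, hz, hzy⟩ := hy'
      rwa [(MulAut.conj g).injective hzy] at hz
  have hLY : L ≤ normalizer (Y : Set G) := by
    rw [closure_le]
    rintro g (rfl | rfl)
    · exact hnorm _ (by rw [ha1]; exact heY) (by rw [ha2]; exact Y.mul_mem heY hfY)
    · exact hnorm _ (by rw [hb2]; exact Y.mul_mem heY hfY) (by rw [hb1]; exact hfY)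
  -- the action
  let φ : L →* MulAut Y := Y.normalizerMonoidHom.comp (inclusion hLY)
  have hφ : ∀ (g : L) (y : Y), (φ g y : G) = g * y * (g : G)⁻¹ := fun g y => rfl
  let a' : L := ⟨a, subset_closure (by simp)⟩
  let b' : L := ⟨b, subset_closure (by simp)⟩
  let R := φ.range
  have hR6 : Nat.card R = 6 := by
    refine le_antisymm ((card_le_card_group R).trans (card_mulAut_le hY4
      (e := (⟨e, heY⟩ : Y)) (f := ⟨f, hfY⟩) (fun h => he (congrArg Subtype.val h))
      (fun h => hf (congrArg Subtype.val h)) (fun h => hne (congrArg Subtype.val h)) ?_)) ?_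
    · apply map_injective Y.subtype_injective
      rw [MonoidHom.map_closure, ← MonoidHom.range_eq_map, range_subtype]
      congr 1
      simp [Set.image_pair]
    have hact : ∀ (g : L) (y : G) (hy : y ∈ Y), (φ g ⟨y, hy⟩ : G) = g * y * (g : G)⁻¹ :=
      fun g y hy => rfl
    have h2 : 2 ∣ Nat.card R := by
      have : Fact (Nat.Prime 2) := ⟨Nat.prime_two⟩
      have ho : orderOf (φ a') = 2 := by
        refine orderOf_eq_prime ?_ fun h => he ?_
        · refine MulEquiv.ext fun ⟨y, hy⟩ => Subtype.ext ?_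
          rw [pow_two, MulAut.mul_apply]
          change a * (a * y * a⁻¹) * a⁻¹ = y
          rw [← SetLike.mem_coe, hYset] at hy
          have hy2 : a * (e * f) * a⁻¹ = f := by
            rw [conj_mul.symm, ha1, ha2, ← mul_assoc, hee, one_mul]
          rcases hy with rfl | rfl | rfl | rfl
          · simp
          · rw [ha1, ha1]
          · rw [ha2, hy2]
          · rw [hy2, ha2]
        · have h1 := congrArg Subtype.val (MulEquiv.congr_fun h ⟨f, hfY⟩)
          change a * f * a⁻¹ = f at h1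
          rw [ha2] at h1
          exact mul_eq_right.1 h1
      exact ho ▸ (R.orderOf_dvd_natCard ⟨a', rfl⟩)
    have h3 : 3 ∣ Nat.card R := by
      have : Fact (Nat.Prime 3) := ⟨Nat.prime_three⟩
      have e1 : a * (b * e * b⁻¹) * a⁻¹ = f := by
        rw [hb2, conj_mul.symm, ha1, ha2, ← mul_assoc, hee, one_mul]
      have e2 : a * (b * f * b⁻¹) * a⁻¹ = e * f := by rw [hb1, ha2]
      have e3 : a * (b * (e * f) * b⁻¹) * a⁻¹ = e := by
        rw [show b * (e * f) * b⁻¹ = b * e * b⁻¹ * (b * f * b⁻¹) by group, hb1, hb2, mul_assoc e f f, hff,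
          mul_one, ha1]
      have ho : orderOf (φ (a' * b')) = 3 := by
        refine orderOf_eq_prime ?_ fun h => hne ?_
        · refine MulEquiv.ext fun ⟨y, hy⟩ => Subtype.ext ?_
          rw [pow_succ, pow_two, MulAut.mul_apply, MulAut.mul_apply, map_mul, MulAut.mul_apply,
            MulAut.mul_apply, MulAut.mul_apply]
          change a * (b * (a * (b * (a * (b * y * b⁻¹) * a⁻¹) * b⁻¹) * a⁻¹) * b⁻¹) * a⁻¹ = y
          rw [← SetLike.mem_coe, hYset] at hy
          rcases hy with rfl | rfl | rfl | rfl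
          · simp
          · rw [e1, e2, e3]
          · rw [e2, e3, e1]
          · rw [e3, e1, e2]
        · have h1 := congrArg Subtype.val (MulEquiv.congr_fun h ⟨e, heY⟩)
          rw [map_mul, MulAut.mul_apply] at h1
          change a * (b * e * b⁻¹) * a⁻¹ = e at h1
          rw [e1] at h1
          exact h1.symm
      exact ho ▸ (R.orderOf_dvd_natCard ⟨a' * b', rfl⟩)
    exact Nat.le_of_dvd Nat.card_pos (Nat.Coprime.mul_dvd_of_dvd_of_dvd (by norm_num : Nat.Coprime 2 3) h2 h3)
  -- a complement above `R`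
  have hφs : Function.Surjective φ.rangeRestrict := φ.rangeRestrict_surjective
  have : Fact (Nat.Prime 3) := ⟨Nat.prime_three⟩
  obtain ⟨T⟩ : Nonempty (Sylow 3 L) := inferInstance
  let T₀ := T.mapSurjective hφs
  have hT₀card : Nat.card (T₀ : Subgroup R) = 3 := by
    rw [T₀.card_eq_multiplicity, hR6, show (6 : ℕ) = 3 * 2 by norm_num,
      Nat.factorization_mul (by norm_num) (by norm_num)]
    simp [Nat.prime_three.factorization, Nat.prime_two.factorization]
  have hT₀idx : (T₀ : Subgroup R).index = 2 := by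
    have := (T₀ : Subgroup R).index_mul_card
    rw [hT₀card, hR6] at this
    omega
  have hT₀n : (T₀ : Subgroup R).Normal := normal_of_index_eq_two hT₀idx
  let M := (T₀ : Subgroup R).comap φ.rangeRestrict
  have hTM : (T : Subgroup L) ≤ M := fun x hx => mem_map_of_mem _ hx
  let D := normalizer ((T : Subgroup L) : Set L)
  have hDM : D ⊔ M = ⊤ := by
    have h := Sylow.normalizer_sup_eq_top (N := M) (T.subtype hTM)
    rwa [Sylow.coe_subtype, subgroupOf_map_subtype, inf_eq_left.2 hTM] at h
  have hDR : D.map φ.rangeRestrict = ⊤ := by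
    have h := congrArg (Subgroup.map φ.rangeRestrict) hDM
    rw [Subgroup.map_sup, Subgroup.map_top_of_surjective _ hφs,
      Subgroup.map_comap_eq_self_of_surjective hφs] at h
    refine top_le_iff.1 (h ▸ sup_le le_rfl ?_)
    rw [Sylow.coe_mapSurjective]
    exact Subgroup.map_mono le_normalizer
  let D₀ := D.map L.subtype
  have hD₀Y : D₀ ≤ normalizer (Y : Set G) := (map_subtype_le D).trans hLY
  have hdisj : Y ⊓ D₀ = ⊥ := by
    rw [eq_bot_iff]
    rintro y ⟨hy, d, hd, rfl⟩
    -- `y` commutes with `T`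
    obtain ⟨c, hc⟩ : ∃ c : (T₀ : Subgroup R), (c : R) ≠ 1 := by
      have : Nontrivial (T₀ : Subgroup R) :=
        Finite.one_lt_card_iff_nontrivial.1 (by rw [hT₀card]; norm_num)
      obtain ⟨c, hc⟩ := exists_ne (1 : (T₀ : Subgroup R))
      exact ⟨c, fun h => hc (Subtype.ext h)⟩
    obtain ⟨t, ht, htc⟩ := (c.2 : (c : R) ∈ (T : Subgroup L).map φ.rangeRestrict)
    have hcomm : (d : G) * t * (d : G)⁻¹ * (t : G)⁻¹ = 1 := by
      have h1 : d * t * d⁻¹ * t⁻¹ ∈ (T : Subgroup L) :=
        mul_mem ((mem_normalizer_iff.1 hd t).1 ht) (inv_mem ht)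
      have h2 : (d : G) * t * (d : G)⁻¹ * (t : G)⁻¹ ∈ Y := by
        rw [mul_assoc, mul_assoc, ← mul_assoc (t : G)]
        exact mul_mem hy ((mem_normalizer_iff.1 (hLY t.2) _).1 (inv_mem hy))
      let z : Y := ⟨_, h2⟩
      obtain ⟨k, hk⟩ := T.2 ⟨_, h1⟩
      have hk' : z ^ 3 ^ k = 1 := Subtype.ext (congrArg (fun w : (T : Subgroup L) => ((w : L) : G)) hk)
      have h4 : z ^ 4 = 1 := by rw [← hY4]; exact pow_card_eq_one'
      have h5 := pow_gcd_eq_one.mpr ⟨hk', h4⟩
      rw [show Nat.gcd (3 ^ k) 4 = 1 from Nat.Coprime.pow_left k (by norm_num), pow_one] at h5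
      exact congrArg Subtype.val h5
    rw [mem_bot]
    by_contra hy1
    -- then `t` fixes a point of the four-group, so acts with order at most two
    apply hc
    have hfix : (t : G) * (d : G) * (t : G)⁻¹ = d := by
      rw [mul_inv_eq_iff_eq_mul]
      exact (mul_inv_eq_iff_eq_mul.1 (mul_inv_eq_one.1 hcomm)).symm
    have hc3 : (c : R) ^ 3 = 1 := by
      have h1 : c ^ Nat.card (T₀ : Subgroup R) = 1 := pow_card_eq_one'
      rw [hT₀card] at h1
      exact congrArg Subtype.val h1
    have hval : ((c : R) : MulAut Y) = φ t := by rw [← htc]; rfl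
    refine Subtype.ext ?_
    change ((c : R) : MulAut Y) = 1
    have hc3' : φ t ^ 3 = 1 := by rw [← hval, ← SubgroupClass.coe_pow, hc3]; rfl
    rw [hval]
    refine MulEquiv.ext fun u => ?_
    let y : Y := ⟨(d : G), hy⟩
    have hy' : φ t y = y := Subtype.ext hfix
    let : Fintype Y := Fintype.ofFinite Y
    by_contra hu
    let σ := φ t
    have hσ : ∀ x, σ (σ (σ x)) = x := fun x => by
      have := MulEquiv.congr_fun hc3' x
      rwa [pow_succ, pow_two, MulAut.mul_apply, MulAut.mul_apply] at this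
    -- five points in a set of four
    have hu1 : u ≠ 1 := fun h => hu (by rw [h, map_one]; rfl)
    have huy : u ≠ y := fun h => hu (by rw [h, hy']; rfl)
    have hfixmove : ∀ x, σ x ≠ x → x ≠ 1 ∧ x ≠ y :=
      fun x hx => ⟨fun h => hx (by rw [h, map_one]), fun h => hx (by rw [h]; exact hy')⟩
    have h1 : σ u ≠ u := hu
    have h2 : σ (σ u) ≠ σ u := fun h => h1 (σ.injective h)
    have h3 : σ (σ u) ≠ u := fun h => h1 (by
      have := hσ u
      rw [h] at this
      exact this)
    have hy1' : y ≠ 1 := fun h => hy1 (congrArg Subtype.val h)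
    have hsub : ({1, y, u, σ u, σ (σ u)} : Finset Y).card = 5 := by
      obtain ⟨a1, a2⟩ := hfixmove u h1
      obtain ⟨b1, b2⟩ := hfixmove (σ u) h2
      obtain ⟨c1, c2⟩ := hfixmove (σ (σ u)) (fun h => h2 (σ.injective h))
      simp [Finset.card_insert_of_notMem, Ne.symm a1, Ne.symm a2, Ne.symm b1, Ne.symm b2,
        Ne.symm c1, Ne.symm c2, Ne.symm hy1', Ne.symm h1, Ne.symm h2, Ne.symm h3]
    have := Finset.card_le_univ ({1, y, u, σ u, σ (σ u)} : Finset Y)
    rw [hsub, ← Nat.card_eq_fintype_card, hY4] at this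
    omega
  -- the action on four points
  let X := Y ⊔ D₀
  have hX : Nat.card X = 4 * Nat.card D₀ := by
    rw [show X = D₀ ⊔ Y from sup_comm _ _, Lib.Coprime.card_sup_of_disjoint hD₀Y
      (disjoint_iff.2 (by rw [inf_comm]; exact hdisj)), hY4, mul_comm]
  let P := D₀.subgroupOf X
  have hP : P.index = 4 := by
    have h := P.index_mul_card
    rw [Nat.card_congr (subgroupOfEquivOfLe (le_sup_right : D₀ ≤ X)).toEquiv, hX] at h
    exact Nat.eq_of_mul_eq_mul_right Nat.card_pos h
  let π : X →* Equiv.Perm (X ⧸ P) := MulAction.toPermHom X (X ⧸ P)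
  have hker : π.ker = P.normalCore := (normalCore_eq_ker P).symm
  -- the kernel centralises `Y`
  let ψ : D →* R := φ.rangeRestrict.comp D.subtype
  have hψ : Function.Surjective ψ := fun r => by
    obtain ⟨d, hd, rfl⟩ := (hDR ▸ mem_top r : r ∈ D.map φ.rangeRestrict)
    exact ⟨⟨d, hd⟩, rfl⟩
  have hkerψ : π.ker.map X.subtype ≤ ψ.ker.map (L.subtype.comp D.subtype) := by
    rintro _ ⟨x, hx, rfl⟩
    rw [hker] at hx
    have hxP : (x : G) ∈ D₀ := P.normalCore_le hx
    obtain ⟨d, hd, hdx⟩ := hxP
    refine ⟨⟨d, hd⟩, MonoidHom.mem_ker.2 (Subtype.ext (MulEquiv.ext fun y => Subtype.ext ?_)), hdx⟩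
    change (d : G) * y * (d : G)⁻¹ = y
    have h1 : (⟨(y : G), mem_sup_left y.2⟩ : X) * x * (⟨(y : G), mem_sup_left y.2⟩ : X)⁻¹ * x⁻¹ ∈
        P := P.normalCore_le (mul_mem (P.normalCore_normal.conj_mem _ hx _) (inv_mem hx))
    have h2 : (y : G) * (x : G) * (y : G)⁻¹ * (x : G)⁻¹ ∈ D₀ := h1
    have h3 : (y : G) * (x : G) * (y : G)⁻¹ * (x : G)⁻¹ ∈ Y := by
      rw [mul_assoc, mul_assoc, ← mul_assoc (x : G)]
      exact mul_mem y.2 ((mem_normalizer_iff.1 (hD₀Y (P.normalCore_le hx)) _).1 (inv_mem y.2))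
    have h4 : (y : G) * (x : G) * (y : G)⁻¹ * (x : G)⁻¹ = 1 := by
      rw [← mem_bot, ← hdisj]; exact ⟨h3, h2⟩
    have h5 : (y : G) * (d : G) = (d : G) * y :=
      mul_inv_eq_iff_eq_mul.1 (mul_inv_eq_one.1 (by rw [← hdx] at h4; exact h4))
    rw [← h5, mul_inv_cancel_right]
  have hrange : 24 ≤ Nat.card π.range := by
    have h1 := π.ker.index_mul_card
    rw [index_ker, hX] at h1
    have h2 := ψ.ker.index_mul_card
    rw [index_ker, MonoidHom.range_eq_top.2 hψ, card_top, hR6] at h2
    have h3 : Nat.card π.ker ≤ Nat.card ψ.ker := by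
      rw [← Subgroup.card_subtype X π.ker,
        ← Nat.card_congr (ψ.ker.equivMapOfInjective (L.subtype.comp D.subtype)
          (L.subtype_injective.comp D.subtype_injective)).toEquiv.symm]
      exact card_le_of_le hkerψ
    have h4 : Nat.card D₀ = Nat.card D := card_map_of_injective L.subtype_injective
    rw [h4, ← h2] at h1
    have h6 : Nat.card π.range * Nat.card ψ.ker ≥ 24 * Nat.card ψ.ker :=
      calc 24 * Nat.card ψ.ker = 4 * (6 * Nat.card ψ.ker) := by ring
        _ = Nat.card π.range * Nat.card π.ker := h1.symm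
        _ ≤ _ := Nat.mul_le_mul_left _ h3
    exact Nat.le_of_mul_le_mul_right h6 Nat.card_pos
  have hperm : Nat.card (Equiv.Perm (X ⧸ P)) = 24 := by
    rw [Nat.card_perm, ← index_eq_card, hP]; rfl
  have htop : π.range = ⊤ := eq_top_of_card_eq _ (le_antisymm (card_le_card_group _) (hperm ▸ hrange))
  let ε : (X ⧸ P) ≃ Fin 4 := (Finite.equivFin _).trans (finCongr (by rw [← index_eq_card, hP]))
  exact Transfer.InvolvesS4.involves_of_hom X (ε.permCongrHom.toMonoidHom.comp π)
    (ε.permCongrHom.surjective.comp (MonoidHom.range_eq_top.1 htop))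

/-- The section version. -/
theorem involves_s4_section {a b e f : G} (K : Subgroup G)
    (hK : ∀ k ∈ K, ∀ g ∈ ({a, b, e, f} : Set G), g * k * g⁻¹ = k)
    (hee : e * e ∈ K) (hff : f * f ∈ K) (hef : e * f * e⁻¹ * f⁻¹ ∈ K)
    (he : e ∉ K) (hf : f ∉ K) (hne : e⁻¹ * f ∉ K)
    (ha1 : a * e * a⁻¹ * e⁻¹ ∈ K) (ha2 : a * f * a⁻¹ * (e * f)⁻¹ ∈ K)
    (hb1 : b * f * b⁻¹ * f⁻¹ ∈ K) (hb2 : b * e * b⁻¹ * (e * f)⁻¹ ∈ K) :
    Cfsg.Involves (Equiv.Perm (Fin 4)) G := by
  let X := closure ({a, b, e, f} : Set G)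
  let N := K.subgroupOf X
  have hcen : ∀ x ∈ X, ∀ k ∈ K, x * k * x⁻¹ = k := by
    intro x hx
    induction hx using closure_induction with
    | mem x hx => exact fun k hk => hK k hk x hx
    | one => intro k _; simp
    | mul x y _ _ ihx ihy =>
        intro k hk
        rw [show x * y * k * (x * y)⁻¹ = x * (y * k * y⁻¹) * x⁻¹ by group, ihy k hk, ihx k hk]
    | inv x _ ih =>
        intro k hk
        conv_lhs => rw [← ih k hk]
        group
  have : N.Normal := ⟨fun n hn x => by
    rw [mem_subgroupOf] at hn ⊢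
    change (x : G) * n * (x : G)⁻¹ ∈ K
    rw [hcen x x.2 n hn]; exact hn⟩
  let π := QuotientGroup.mk' N
  let a' : X := ⟨a, subset_closure (by simp)⟩
  let b' : X := ⟨b, subset_closure (by simp)⟩
  let e' : X := ⟨e, subset_closure (by simp)⟩
  let f' : X := ⟨f, subset_closure (by simp)⟩
  have key : ∀ u v : X, (u : G) * (v : G)⁻¹ ∈ K → π u = π v := fun u v h =>
    eq_of_div_eq_one (by
      rw [← map_div, QuotientGroup.mk'_apply, QuotientGroup.eq_one_iff, mem_subgroupOf, div_eq_mul_inv]
      exact h)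
  have key1 : ∀ u : X, π u = 1 → (u : G) ∈ K := fun u h =>
    mem_subgroupOf.1 ((QuotientGroup.eq_one_iff u).1 h)
  refine Transfer.InvolvesS4.involves_of_injective X.subtype X.subtype_injective
    (Transfer.InvolvesS4.involves_of_surjective π (QuotientGroup.mk'_surjective N)
      (involves_s4 (a := π a') (b := π b') (e := π e') (f := π f') ?_ ?_ ?_ ?_ ?_ ?_ ?_ ?_ ?_ ?_))
  · rw [← map_mul, ← map_one π]; refine key _ _ ?_; simpa [e'] using hee
  · rw [← map_mul, ← map_one π]; refine key _ _ ?_; simpa [f'] using hff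
  · rw [← map_mul, ← map_mul]; refine key _ _ ?_; simpa [e', f', mul_assoc] using hef
  · exact fun h => he (key1 _ h)
  · exact fun h => hf (key1 _ h)
  · exact fun h => hne (key1 (e'⁻¹ * f') (by rw [map_mul, map_inv, h, inv_mul_cancel]))
  · rw [← map_mul, ← map_inv, ← map_mul]; refine key _ _ ?_; simpa [a', e', mul_assoc] using ha1
  · rw [← map_mul, ← map_inv, ← map_mul, ← map_mul]; refine key _ _ ?_
    simpa [a', e', f', mul_assoc] using ha2
  · rw [← map_mul, ← map_inv, ← map_mul]; refine key _ _ ?_; simpa [b', f', mul_assoc] using hb1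
  · rw [← map_mul, ← map_inv, ← map_mul, ← map_mul]; refine key _ _ ?_
    simpa [b', e', f', mul_assoc] using hb2

end Cfsg.Agent.Lib.FourFree.Section
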